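import Mathlib
import Cfsg.Prelude.Def_Transfer
import Cfsg.Prelude.Def_PLocal
import Cfsg.Agent.Lib.Helper4.Thompson2
import Cfsg.Agent.Lib.Helper4.Card
import Cfsg.Agent.Lib.Helper9.Cores
import Cfsg.Agent.Lib.Helper16.Basic
import Cfsg.Agent.Lib.Helper10.Coprime

/-!
# Quotients by a normal `p'`-subgroup: lifting normalizers and centralizers of `p`-subgroups (helper4)
-/

set_option autoImplicit false

namespace Cfsg.Agent.Lib.Helper4.PPrimeQuot

open Cfsg
open scoped Pointwise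

universe u v

variable {G : Type u} [Group G] {p : ℕ}

/-- a `p`-element of a `p'`-subgroup is trivial -/
theorem eq_one_of_mem [Finite G] {O X : Subgroup G} (hO : (Nat.card O).Coprime p)
    (hX : IsPGroup p X) {x : G} (hxX : x ∈ X) (hxO : x ∈ O) : x = 1 := by
  obtain ⟨k, hk⟩ := hX ⟨x, hxX⟩
  have hk' : x ^ p ^ k = 1 := by simpa using congrArg Subtype.val hk
  have h1 : orderOf x ∣ p ^ k := orderOf_dvd_of_pow_eq_one hk'
  have h2 : orderOf x ∣ Nat.card O := by
    have := orderOf_dvd_natCard (⟨x, hxO⟩ : O)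
    rwa [Subgroup.orderOf_mk] at this
  have h3 : (orderOf x).Coprime (orderOf x) :=
    ((hO.pow_right k).coprime_dvd_left h2).coprime_dvd_right h1
  exact orderOf_eq_one_iff.mp ((Nat.coprime_self _).mp h3)

/-- the quotient map is injective on `p`-subgroups -/
theorem map_injOn [Finite G] {O X : Subgroup G} [O.Normal] (hO : (Nat.card O).Coprime p)
    (hX : IsPGroup p X) : Function.Injective ((QuotientGroup.mk' O).comp X.subtype) := by
  rw [injective_iff_map_eq_one]
  intro x hx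
  have : (x : G) ∈ O := (QuotientGroup.eq_one_iff _).mp hx
  exact Subtype.ext (eq_one_of_mem hO hX x.2 this)

/-- normalizers of `p`-subgroups lift through the quotient by a normal `p'`-subgroup -/
theorem norm_lift [Finite G] [Fact p.Prime] {O X : Subgroup G} [hOn : O.Normal]
    (hO : (Nat.card O).Coprime p) (hX : IsPGroup p X) (g : G)
    (hg : QuotientGroup.mk' O g ∈ Subgroup.normalizer
      ((X.map (QuotientGroup.mk' O) : Subgroup (G ⧸ O)) : Set (G ⧸ O))) :
    ∃ u ∈ O, u * g ∈ Subgroup.normalizer (X : Set G) := by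
  have hpp : p.Prime := Fact.out
  have h1 : X.map (MulAut.conj g).toMonoidHom ≤ X ⊔ O := by
    rintro _ ⟨x, hx, rfl⟩
    have h2 : QuotientGroup.mk' O (g * x * g⁻¹) ∈ X.map (QuotientGroup.mk' O) := by
      rw [map_mul, map_mul, map_inv]
      exact (Subgroup.mem_normalizer_iff.mp hg _).mp (Subgroup.mem_map_of_mem _ hx)
    obtain ⟨x', hx', hxx⟩ := h2
    have h3 : x'⁻¹ * (g * x * g⁻¹) ∈ O := QuotientGroup.eq.mp hxx
    have h4 : (MulAut.conj g).toMonoidHom x = x' * (x'⁻¹ * (g * x * g⁻¹)) := by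
      simp [MulAut.conj_apply]
    rw [h4]
    exact Subgroup.mul_mem _ (Subgroup.mem_sup_left hx') (Subgroup.mem_sup_right h3)
  have hXH : X ≤ X ⊔ O := le_sup_left
  have hX' : IsPGroup p (X.subgroupOf (X ⊔ O)) := hX.comap_subtype
  have hidx : ¬ p ∣ (X.subgroupOf (X ⊔ O)).index := by
    intro hdvd
    have h5 : Nat.card ↥(X ⊔ O) = Nat.card X * X.relIndex (X ⊔ O) := by
      have := Cfsg.Agent.Lib.Helper4.Card.card_eq_relIndex_mul_card_inf X (X ⊔ O)
      rw [inf_eq_left.mpr hXH] at this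
      rw [this, mul_comm]
    have h6 := Cfsg.Agent.Lib.Helper9.card_sup_dvd X O
    rw [h5] at h6
    have h7 : X.relIndex (X ⊔ O) ∣ Nat.card O := Nat.dvd_of_mul_dvd_mul_left Nat.card_pos h6
    have h8 : p ∣ Nat.card O := hdvd.trans h7
    exact (Nat.Prime.coprime_iff_not_dvd hpp).mp hO.symm h8
  obtain ⟨k, hk, hk2⟩ := Cfsg.Agent.Lib.Helper16.Basic.exists_conj_le_sylow_sub
    (hX'.toSylow hidx) h1 (hX.map _)
  rw [IsPGroup.toSylow_coe, Subgroup.map_subgroupOf_eq_of_le hXH] at hk2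
  have hk' : k ∈ (X : Set G) * (O : Set G) := by
    rw [← Subgroup.mul_normal]; exact hk
  obtain ⟨x₀, hx₀, u, hu, rfl⟩ := Set.mem_mul.mp hk'
  refine ⟨u, hu, ?_⟩
  apply Cfsg.Agent.Lib.Helper10.Coprime.mem_normalizer_of_conj_mem
  intro s hs
  have h9 : (x₀ * u) * (g * s * g⁻¹) * (x₀ * u)⁻¹ ∈ X := by
    apply hk2
    exact ⟨g * s * g⁻¹, ⟨s, hs, by simp [MulAut.conj_apply]⟩, by simp [MulAut.conj_apply, mul_assoc]⟩
  have h10 : u * g * s * (u * g)⁻¹ = x₀⁻¹ * ((x₀ * u) * (g * s * g⁻¹) * (x₀ * u)⁻¹) * x₀ := by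
    group
  rw [h10]
  exact X.mul_mem (X.mul_mem (X.inv_mem hx₀) h9) hx₀

/-- centralizers of `p`-subgroups lift through the quotient by a normal `p'`-subgroup -/
theorem cent_lift [Finite G] [Fact p.Prime] {O X : Subgroup G} [hOn : O.Normal]
    (hO : (Nat.card O).Coprime p) (hX : IsPGroup p X) (g : G)
    (hg : QuotientGroup.mk' O g ∈ Subgroup.centralizer
      ((X.map (QuotientGroup.mk' O) : Subgroup (G ⧸ O)) : Set (G ⧸ O))) :
    ∃ u ∈ O, u * g ∈ Subgroup.centralizer (X : Set G) := by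
  obtain ⟨u, hu, hn⟩ := norm_lift hO hX g (Subgroup.centralizer_le_normalizer _ hg)
  refine ⟨u, hu, ?_⟩
  rw [Subgroup.mem_centralizer_iff]
  intro x hx
  have h1 : u * g * x * (u * g)⁻¹ ∈ X := (Subgroup.mem_normalizer_iff.mp hn x).mp hx
  have h2 : u * g * x * (u * g)⁻¹ * x⁻¹ ∈ O := by
    rw [← QuotientGroup.eq_one_iff (N := O)]
    have h3 : ((u : G) : G ⧸ O) = 1 := (QuotientGroup.eq_one_iff u).mpr hu
    have h4 : QuotientGroup.mk' O x * QuotientGroup.mk' O g
        = QuotientGroup.mk' O g * QuotientGroup.mk' O x :=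
      (Subgroup.mem_centralizer_iff.mp hg) _ (Subgroup.mem_map_of_mem _ hx)
    simp only [QuotientGroup.mk'_apply] at h4
    simp only [QuotientGroup.mk_mul, QuotientGroup.mk_inv, h3, one_mul]
    rw [← h4]; group
  have h5 := eq_one_of_mem hO hX (X.mul_mem h1 (X.inv_mem hx)) h2
  have h6 : u * g * x = (u * g * x * (u * g)⁻¹ * x⁻¹) * x * (u * g) := by group
  rw [h6, h5, one_mul]

theorem cent_map {G' : Type v} [Group G'] (f : G →* G') (X : Subgroup G) {c : G}
    (hc : c ∈ Subgroup.centralizer (X : Set G)) :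
    f c ∈ Subgroup.centralizer ((X.map f : Subgroup G') : Set G') := by
  rw [Subgroup.mem_centralizer_iff]
  rintro _ ⟨x, hx, rfl⟩
  rw [← map_mul, ← map_mul, (Subgroup.mem_centralizer_iff.mp hc) x hx]

theorem norm_map {G' : Type v} [Group G'] (f : G →* G') (X : Subgroup G) {n : G}
    (hn : n ∈ Subgroup.normalizer (X : Set G)) :
    f n ∈ Subgroup.normalizer ((X.map f : Subgroup G') : Set G') :=
  Subgroup.le_normalizer_map f (Subgroup.mem_map_of_mem f hn)

theorem omegaOne_le (p : ℕ) (H : Subgroup G) : omegaOne p H ≤ H := by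
  unfold omegaOne
  rw [Subgroup.closure_le]
  exact fun x hx => hx.1

/-- `Ω₁(Z(S))` of a `p`-subgroup is transported to the quotient by a normal `p'`-subgroup -/
theorem omegaOne_center_map [Finite G] {O S : Subgroup G} [O.Normal]
    (hO : (Nat.card O).Coprime p) (hS : IsPGroup p S) :
    (omegaOne p (S ⊓ Subgroup.centralizer (S : Set G))).map (QuotientGroup.mk' O) =
      omegaOne p (S.map (QuotientGroup.mk' O) ⊓ Subgroup.centralizer
        ((S.map (QuotientGroup.mk' O) : Subgroup (G ⧸ O)) : Set (G ⧸ O))) := by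
  unfold omegaOne
  rw [MonoidHom.map_closure]
  congr 1
  ext y
  constructor
  · rintro ⟨x, ⟨hx, hxp⟩, rfl⟩
    obtain ⟨hxS, hxC⟩ := Subgroup.mem_inf.mp hx
    refine ⟨Subgroup.mem_inf.mpr ⟨Subgroup.mem_map_of_mem _ hxS, ?_⟩,
      by rw [← map_pow, hxp, map_one]⟩
    exact cent_map _ S hxC
  · rintro ⟨hy, hyp⟩
    obtain ⟨hyS, hyC⟩ := Subgroup.mem_inf.mp hy
    obtain ⟨x, hxS, rfl⟩ := hyS
    refine ⟨x, ⟨Subgroup.mem_inf.mpr ⟨hxS, ?_⟩, ?_⟩, rfl⟩
    · rw [Subgroup.mem_centralizer_iff]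
      intro s hs
      have h1 : QuotientGroup.mk' O s * QuotientGroup.mk' O x
          = QuotientGroup.mk' O x * QuotientGroup.mk' O s :=
        (Subgroup.mem_centralizer_iff.mp hyC) _ (Subgroup.mem_map_of_mem _ hs)
      rw [← map_mul, ← map_mul] at h1
      have h2 : (x * s)⁻¹ * (s * x) ∈ O := QuotientGroup.eq.mp h1.symm
      have h3 := eq_one_of_mem hO hS
        (S.mul_mem (S.inv_mem (S.mul_mem hxS hs)) (S.mul_mem hs hxS)) h2
      exact (inv_mul_eq_one.mp h3).symm
    · have h1 : QuotientGroup.mk' O (x ^ p) = 1 := by rw [map_pow]; exact hyp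
      exact eq_one_of_mem hO hS (S.pow_mem hxS p) ((QuotientGroup.eq_one_iff _).mp h1)

/-- the Thompson subgroup of `S` is transported by homomorphisms injective on `S` -/
theorem thompsonSubgroupOf_map_of_injOn {G' : Type v} [Group G'] (f : G →* G') (S : Subgroup G)
    (hf : Function.Injective (f.comp S.subtype)) :
    thompsonSubgroupOf p (S.map f) = (thompsonSubgroupOf p S).map f := by
  have h1 := Cfsg.Agent.Lib.Helper4.Thompson2.thompsonSubgroupOf_map (p := p)
    (f.comp S.subtype) hf (⊤ : Subgroup S)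
  have h2 := Cfsg.Agent.Lib.Helper4.Thompson2.thompsonSubgroupOf_map (p := p)
    S.subtype S.subtype_injective (⊤ : Subgroup S)
  have h3 : (⊤ : Subgroup S).map S.subtype = S := by
    rw [← MonoidHom.range_eq_map, Subgroup.range_subtype]
  have h4 : (⊤ : Subgroup S).map (f.comp S.subtype) = S.map f := by
    rw [← Subgroup.map_map, h3]
  rw [h4] at h1
  rw [h3] at h2
  rw [h1, h2, Subgroup.map_map]

end Cfsg.Agent.Lib.Helper4.PPrimeQuot
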